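import Cfsg.Agent.S0948
import Cfsg.Agent.S0992
import Cfsg.Agent.S3331
import Cfsg.Agent.S4500
import Cfsg.Agent.Lib.Block.Exist
import Cfsg.Agent.Lib.Block.Klein
import Cfsg.Agent.Lib.Char.KleinTriple
import Cfsg.Agent.Lib.Char.Kernel
import Cfsg.Agent.Lib.Char.Regular
import Cfsg.Agent.Lib.SmallSimple.Basic
import Cfsg.Agent.Lib.SmallSimple.SubgroupsAltEight
import Cfsg.Agent.Lib.SmallCofactor.Numeric

/-!
# Simple groups of order `4 * p ^ a * q ^ b` and `3 * p ^ a * q ^ b`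
-/

set_option autoImplicit false
set_option linter.style.haveILetI false

open Cfsg Cfsg.Agent.Lib Subgroup Module

namespace Cfsg.Agent.Lib.SmallCofactor

universe u

variable {G : Type u} [Group G] [Finite G] [IsSimpleGroup G]

theorem hom_trivial (hG : ¬ IsMulCommutative G) {A : Type*} [CommMonoid A] (l : G →* A) (g : G) :
    l g = 1 := by
  rcases (MonoidHom.normal_ker l.toHomUnits).eq_bot_or_eq_top with h | h
  · exfalso
    exact hG ⟨⟨fun a b => (MonoidHom.ker_eq_bot_iff _).1 h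
      (by rw [map_mul, map_mul, mul_comm])⟩⟩
  · have : g ∈ l.toHomUnits.ker := h ▸ mem_top g
    exact congrArg Units.val (MonoidHom.mem_ker.1 this)

theorem charDegree_ne_one (hG : ¬ IsMulCommutative G) {χ : IrrCharacter G}
    (hχ : (χ : G → ℂ) ≠ fun _ => 1) : charDegree (χ : G → ℂ) ≠ 1 := by
  intro h
  obtain ⟨l, hl⟩ := Char.exists_hom_of_degree_one (Char.isCharacter_of_isIrr χ.2)
    ((Char.charDegree_eq_one_iff χ.2).1 h)
  exact hχ (funext fun g => by rw [hl, hom_trivial hG l g, Units.val_one])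

/-- The faithful representation of degree three behind a character of degree three. -/
theorem exists_rep (hG : ¬ IsMulCommutative G) {χ : IrrCharacter G}
    (hd : charDegree (χ : G → ℂ) = 3) (hχ : (χ : G → ℂ) ≠ fun _ => 3) :
    ∃ ρ : Representation ℂ G (Fin 3 → ℂ),
      (χ : G → ℂ) = ρ.character ∧ Function.Injective ρ := by
  obtain ⟨n, ρ, he⟩ := Char.isCharacter_of_isIrr χ.2
  have hn : n = 3 := by
    rw [← he, Char.charDegree_eq_of_apply_one (n := n) (by simp)] at hd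
    exact hd
  subst hn
  refine ⟨ρ, he.symm, ?_⟩
  rcases (MonoidHom.normal_ker ρ.toHomUnits).eq_bot_or_eq_top with h | h
  · intro a b hab
    exact (MonoidHom.ker_eq_bot_iff _).1 h (Units.ext hab)
  · exfalso
    refine hχ (funext fun g => ?_)
    have h1 : ρ g = 1 :=
      congrArg Units.val (MonoidHom.mem_ker.1 (show g ∈ ρ.toHomUnits.ker from h ▸ mem_top g))
    rw [← he, Representation.character, h1, LinearMap.trace_one]
    simp

/-- Eigenvalues of one element in degree three. -/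
theorem eigen_three (hG : ¬ IsMulCommutative G) (ρ : Representation ℂ G (Fin 3 → ℂ)) (u : G) :
    ∃ ν : Fin 3 → ℂ, (∀ i, ν i ^ orderOf u = 1) ∧
      (∀ k : ℕ, ρ.character (u ^ k) = ν 0 ^ k + ν 1 ^ k + ν 2 ^ k) ∧
      ν 0 * ν 1 * ν 2 = 1 ∧
      ∀ (k : ℕ) (c : ℂ), (∀ i, ν i ^ k = c) → ρ (u ^ k) = c • (1 : Module.End ℂ (Fin 3 → ℂ)) := by
  obtain ⟨b, μ, h1, hk, hc⟩ := Char.exists_eigenbasis ρ u
  let e : Fin 3 ≃ Fin (finrank ℂ (Fin 3 → ℂ)) := finCongr (Module.finrank_fin_fun ℂ).symm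
  refine ⟨fun i => μ (e i), fun i => h1 _, fun k => ?_, ?_, fun k c h => ?_⟩
  · rw [hc, ← e.sum_comp, Fin.sum_univ_three]
  · have hm : LinearMap.toMatrix b b (ρ u) = Matrix.diagonal μ := by
      ext i j
      have := hk j 1
      rw [pow_one, pow_one] at this
      rw [LinearMap.toMatrix_apply, this, map_smul, Basis.repr_self]
      rcases eq_or_ne i j with rfl | hij
      · simp
      · simp [Finsupp.single_eq_of_ne hij, Matrix.diagonal_apply_ne _ hij]
    have hdet : LinearMap.det (ρ u) = 1 := hom_trivial hG (LinearMap.det.comp ρ) u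
    rw [← LinearMap.det_toMatrix b, hm, Matrix.det_diagonal, ← e.prod_comp,
      Fin.prod_univ_three] at hdet
    exact hdet
  · refine b.ext fun i => ?_
    have := h (e.symm i)
    simp only [Equiv.apply_symm_apply] at this
    rw [hk, this, LinearMap.smul_apply, Module.End.one_apply]

theorem dvd_prime_mem {r i j q : ℕ} (hr : r.Prime) (hq : q.Prime) (h : q ∣ 4 * (3 ^ i * r ^ j)) :
    q = 2 ∨ q = 3 ∨ q = r := by
  rcases hq.dvd_mul.1 h with h | h
  · left
    exact (Nat.prime_dvd_prime_iff_eq hq Nat.prime_two).1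
      (hq.dvd_of_dvd_pow (show q ∣ 2 ^ 2 from h))
  rcases hq.dvd_mul.1 h with h | h
  · exact Or.inr (Or.inl ((Nat.prime_dvd_prime_iff_eq hq Nat.prime_three).1 (hq.dvd_of_dvd_pow h)))
  · exact Or.inr (Or.inr ((Nat.prime_dvd_prime_iff_eq hq hr).1 (hq.dvd_of_dvd_pow h)))

/-- A simple group of order `4 * 3 ^ i * r ^ j` has order sixty. -/
theorem card_sixty (hG : ¬ IsMulCommutative G) {r i j : ℕ} (hr : r.Prime) (hr2 : r ≠ 2) (hr3 : r ≠ 3)
    (hcard : Nat.card G = 4 * (3 ^ i * r ^ j)) : Nat.card G = 60 := by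
  classical
  haveI := Fintype.ofFinite G
  haveI : Fact (Nat.Prime 2) := ⟨Nat.prime_two⟩
  set g₀ := 3 ^ i * r ^ j with hg₀
  have hodd : Odd g₀ := (Odd.pow (by decide)).mul (Odd.pow (hr.odd_of_ne_two hr2))
  obtain ⟨k₀, hk₀⟩ := hodd
  have hodd : Odd g₀ := ⟨k₀, hk₀⟩
  have hnc : ¬ ∃ N : Subgroup G, N.Normal ∧ Nat.card N = g₀ := by
    rintro ⟨N, hN, hc⟩
    rcases hN.eq_bot_or_eq_top with rfl | rfl
    · rw [Subgroup.card_bot] at hc
      rw [← hc, mul_one] at hcard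
      exact hG (SmallSimple.isMulCommutative_of_card_prime_sq (p := 2) (⊤ : Subgroup G)
        (by rw [Subgroup.card_top, hcard]; rfl) |> fun h =>
          ⟨⟨fun a b => congrArg Subtype.val (h.is_comm.comm ⟨a, mem_top a⟩ ⟨b, mem_top b⟩)⟩⟩)
    · rw [Subgroup.card_top] at hc; omega
  obtain ⟨T⟩ : Nonempty (Sylow 2 G) := inferInstance
  obtain ⟨hT, -⟩ := Cfsg.Agent.S0992.result hG (hcard ▸ ⟨2 * g₀, by ring⟩)
    (by omega) T
  obtain ⟨hP, hexp, hone⟩ := Char.klein_of_no_complement hodd hcard hnc T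
  obtain ⟨M, hM⟩ := Block.exists_isPModular Nat.prime_two
  haveI := hM.2.1
  obtain ⟨ζ₂, ζ₃, ζ₄, ε, hε, h2, h3, h23, h24, h34, hB, hval, q2, q3, q4, -⟩ :=
    Cfsg.Agent.S0948.result M hM T hT hone
  obtain ⟨z₀, hz₀⟩ := exists_prime_orderOf_dvd_card' (G := (T : Subgroup G)) 2 ⟨2, by rw [hP]⟩
  set z : G := (z₀ : G) with hzdef
  have hz2 : orderOf z = 2 := by rw [hzdef, Subgroup.orderOf_coe]; exact hz₀
  obtain ⟨v2, v3, v4⟩ := hval z hz2
  have h4 : (ζ₄ : G → ℂ) ≠ fun _ => 1 := by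
    intro h; rw [h] at v4; norm_num at v4
  obtain ⟨o, c, hc0, hco, ho0, hCz, -, ⟨oa, ob, od⟩, hrel, hmain, -, -⟩ :=
    Char.klein_triple hM hodd hcard hnc T z₀.2 hz2 hB ⟨h2, h3, h4, h23, h24, h34⟩
      ⟨Or.inl rfl, hε, Or.inr rfl⟩ ⟨by simpa using v2, v3, by simpa using v4⟩
  have da := Char.charDegree_dvd_card ζ₂.2
  have db := Char.charDegree_dvd_card ζ₃.2
  have dd := Char.charDegree_dvd_card ζ₄.2
  have na := charDegree_ne_one hG h2
  have nb := charDegree_ne_one hG h3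
  set a := charDegree (ζ₂ : G → ℂ)
  set b := charDegree (ζ₃ : G → ℂ)
  set d := charDegree (ζ₄ : G → ℂ) with hddef
  have dC : 4 * o ∣ Nat.card G := hCz ▸ card_subgroup_dvd_card _
  have hfac : ∀ (x : ℤ), x ∣ 32 * (o : ℤ) ^ 3 * a * b * d → ∀ q, q.Prime → q ∣ x.natAbs →
      q = 2 ∨ q = 3 ∨ q = r := by
    intro x hx q hq hd'
    have hn : x.natAbs ∣ 2 ^ 5 * o ^ 3 * a * b * d := by
      have := Int.natAbs_dvd_natAbs.2 hx
      simpa [Int.natAbs_mul, Int.natAbs_pow] using this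
    refine dvd_prime_mem (i := i) (j := j) hr hq ?_
    rw [← hg₀, ← hcard]
    rcases hq.dvd_mul.1 (hd'.trans hn) with h | h
    swap
    · exact h.trans dd
    rcases hq.dvd_mul.1 h with h | h
    swap
    · exact h.trans db
    rcases hq.dvd_mul.1 h with h | h
    swap
    · exact h.trans da
    rcases hq.dvd_mul.1 h with h | h
    · exact (hq.dvd_of_dvd_pow h).trans ⟨2 * g₀, by rw [hcard]; ring⟩
    · exact ((hq.dvd_of_dvd_pow h).mul_left 4).trans dC
  have hself : ∀ x, Odd x → x ∣ Nat.card G → ∀ q, q.Prime → q ∣ x → q = 3 ∨ q = r := by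
    intro x hx hxd q hq hd'
    rcases dvd_prime_mem (i := i) (j := j) hr hq (by rw [← hg₀, ← hcard]; exact hd'.trans hxd) with h | h
    · subst h
      exact absurd hd' (by rw [Nat.odd_iff] at hx; omega)
    · exact h
  have X1 : ((a : ℤ) + 1) ∣ 32 * (o : ℤ) ^ 3 * a * b * d :=
    ⟨(Nat.card G : ℤ) * ((b : ℤ) + ε) * ((d : ℤ) + -1) * (c : ℤ) ^ 2, by linear_combination -hmain⟩
  have X2 : ((b : ℤ) + ε) ∣ 32 * (o : ℤ) ^ 3 * a * b * d :=
    ⟨(Nat.card G : ℤ) * ((a : ℤ) + 1) * ((d : ℤ) + -1) * (c : ℤ) ^ 2, by linear_combination -hmain⟩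
  have X3 : ((d : ℤ) + -1) ∣ 32 * (o : ℤ) ^ 3 * a * b * d :=
    ⟨(Nat.card G : ℤ) * ((a : ℤ) + 1) * ((b : ℤ) + ε) * (c : ℤ) ^ 2, by linear_combination -hmain⟩
  have hX : Deg r (a : ℤ) :=
    ⟨q2, by exact_mod_cast na, fun q hq h => hself a oa da q hq (by simpa using h), hfac _ X1⟩
  have hY : Deg r (ε * (b : ℤ)) := by
    have e : ε * (b : ℤ) + 1 = ε * ((b : ℤ) + ε) := by rcases hε with rfl | rfl <;> ring
    refine ⟨?_, ?_, fun q hq h => hself b ob db q hq ?_, fun q hq h => hfac _ X2 q hq ?_⟩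
    · rcases hε with rfl | rfl <;> omega
    · rcases hε with rfl | rfl <;> omega
    · rcases hε with rfl | rfl <;> simpa using h
    · rw [e, Int.natAbs_mul] at h
      rcases hε with rfl | rfl <;> simpa using h
  have hZ : Deg r (-(d : ℤ)) := by
    refine ⟨by omega, by omega, fun q hq h => hself d od dd q hq (by simpa using h),
      fun q hq h => hfac _ X3 q hq ?_⟩
    rwa [show -(d : ℤ) + 1 = -((d : ℤ) + -1) by ring, Int.natAbs_neg] at h
  have key := degrees hr hr2 hr3 hX hY hZ (by linear_combination hrel)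
  have hvals : a = 5 ∧ b = 3 ∧ d = 3 ∧ ε = -1 := by
    rcases hε with rfl | rfl <;> omega
  obtain ⟨ea, eb, ed, eε⟩ := hvals
  obtain ⟨S, n, hmem, -, -, -, -, hsing, -, -⟩ :=
    Block.klein_principal (P := T) (hP := hP) (hexp := hexp) (hone := hone) hM
  have hS4 : ζ₄ ∈ S := (hmem _).2 (by rw [hB]; exact Or.inr (Or.inr (Or.inr rfl)))
  have hev : ∀ g : G, 2 ∣ orderOf g → (ζ₄ : G → ℂ) g = -1 := by
    intro g hg
    rw [hsing ζ₄ hS4 g hg, ← hsing ζ₄ hS4 z (by rw [hz2]), v4]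
  have hne3 : (ζ₄ : G → ℂ) ≠ fun _ => 3 := by
    intro h; rw [h] at v4; norm_num at v4
  obtain ⟨ρ, hρ, hinj⟩ := exists_rep hG ed hne3
  have hodd1 : ∀ w : G, Commute z w → w ^ g₀ = 1 → w = 1 := by
    intro w hzw hw
    set m := orderOf w with hmdef
    have hm : Odd m := hodd.of_dvd_nat (orderOf_dvd_of_pow_eq_one hw)
    set u := z * w with hu
    have hou : orderOf u = 2 * m := by
      rw [hu, hzw.orderOf_mul_eq_mul_orderOf_of_coprime, hz2]
      rw [hz2]; exact Nat.coprime_two_left.2 hm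
    have hj : ∀ k, Odd k → (ζ₄ : G → ℂ) (u ^ k) = -1 := by
      intro k hk
      refine hev _ ?_
      by_contra hn
      have h1 : (u ^ k) ^ m = 1 := by
        have hd' : orderOf (u ^ k) ∣ 2 * m := hou ▸ orderOf_pow_dvd k
        exact orderOf_dvd_iff_pow_eq_one.1
          ((Nat.Coprime.dvd_of_dvd_mul_left (Nat.prime_two.coprime_iff_not_dvd.2 hn).symm hd'))
      rw [← pow_mul, ← orderOf_dvd_iff_pow_eq_one, hou] at h1
      have h2 : 2 ∣ k := Nat.dvd_of_mul_dvd_mul_right (Odd.pos hm) h1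
      rw [Nat.odd_iff] at hk; omega
    obtain ⟨ν, hν, hχ, hdet, hsc⟩ := eigen_three hG ρ u
    rw [hou] at hν
    obtain ⟨t, ht⟩ := hm
    have hev1 : ∀ i, ν i ^ m * ν i ^ m = 1 := fun i => by rw [← pow_add, ← two_mul]; exact hν i
    have hpm : ∀ i, (ν i ^ (m + 1)) ^ m = 1 := fun i => by
      rw [← pow_mul, show (m + 1) * m = 2 * m * (t + 1) by rw [ht]; ring, pow_mul, hν, one_pow]
    have hval' : ∀ k, Odd k → ν 0 ^ k + ν 1 ^ k + ν 2 ^ k = -1 := fun k hk => by
      rw [← hχ, ← hρ, hj k hk]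
    obtain ⟨r1, r2, r3⟩ := signs_three (hev1 0) (hev1 1) (hev1 2) (hval' m ⟨t, ht⟩)
      (μ₁ := ν 0 ^ (m + 1)) (μ₂ := ν 1 ^ (m + 1)) (μ₃ := ν 2 ^ (m + 1))
      (by simp only [← pow_add]; exact hval' _ ⟨m, by ring⟩)
      (by simp only [← pow_mul, ← pow_add]; exact hval' _ ⟨3 * t + 2, by rw [ht]; ring⟩)
      (by rw [← mul_pow, ← mul_pow, hdet, one_pow]) ⟨t, ht⟩ (hpm 0) (hpm 1) (hpm 2)
    have hw1 : u ^ (m + 1) = w := by
      rw [hu, hzw.mul_pow, show m + 1 = 2 * (t + 1) by omega, pow_mul,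
        orderOf_dvd_iff_pow_eq_one.1 (hz2.dvd), one_pow, one_mul, show 2 * (t + 1) = m + 1 by omega, pow_succ, hmdef, pow_orderOf_eq_one,
        one_mul]
    apply hinj
    rw [map_one, ← hw1, hsc (m + 1) 1 (fun i => by fin_cases i <;> assumption), one_smul]
  have hC4 : IsPGroup 2 (centralizer ({z} : Set G)) := by
    intro g
    refine ⟨2, Subtype.ext ?_⟩
    rw [Subgroup.coe_pow, Subgroup.coe_one]
    refine hodd1 _ (Commute.pow_right (mem_centralizer_singleton_iff.1 g.2).symm _) ?_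
    rw [← pow_mul, show (2 : ℕ) ^ 2 * g₀ = Nat.card G by rw [hcard]; norm_num, pow_card_eq_one']
  obtain ⟨k, hk⟩ := IsPGroup.iff_card.1 hC4
  have ho1 : o = 1 := by
    by_contra hne
    obtain ⟨q, hq, hqo⟩ := Nat.exists_prime_and_dvd hne
    have h1 : q = 2 := (Nat.prime_dvd_prime_iff_eq hq Nat.prime_two).1
      (hq.dvd_of_dvd_pow (show q ∣ 2 ^ k from hk ▸ hCz ▸ hqo.mul_left 4))
    subst h1
    have h2 : 2 ∣ g₀ := hqo.trans (Nat.dvd_of_mul_dvd_mul_left (by norm_num : 0 < 4) (hcard ▸ dC))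
    omega
  subst ho1
  have hc1 : c = 1 := Nat.dvd_one.1 hco
  subst hc1
  rw [ea, eb, ed, eε] at hmain
  push_cast at hmain
  omega

/-- Simple groups of order `4 * p ^ a * q ^ b`. -/
theorem iso_of_four (hG : ¬ IsMulCommutative G) {p q a b : ℕ} (hp : p.Prime) (hq : q.Prime)
    (hpq : p ≠ q) (hcard : Nat.card G = 4 * p ^ a * q ^ b) :
    Nonempty (G ≃* alternatingGroup (Fin 5)) := by
  have hns : ∀ {r s i j : ℕ}, r.Prime → s.Prime → ¬ Nat.card G ∣ r ^ i * s ^ j := by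
    intro r s i j hr hs h
    haveI := SmallSimple.AltEight.solvable_two_primes hr hs h
    exact hG (IsSimpleGroup.comm_iff_isSolvable.2 inferInstance |> fun h => ⟨⟨h⟩⟩)
  have hp2 : p ≠ 2 := by
    rintro rfl
    exact hns (i := 2 + a) (j := b) Nat.prime_two hq (by rw [hcard, pow_add]; norm_num)
  have hq2 : q ≠ 2 := by
    rintro rfl
    exact hns (i := a) (j := 2 + b) hp Nat.prime_two (by rw [hcard, pow_add]; ring_nf; rfl)
  have h8 : ¬ 8 ∣ Nat.card G := by
    have : Odd (p ^ a * q ^ b) := (Odd.pow (hp.odd_of_ne_two hp2)).mul (Odd.pow (hq.odd_of_ne_two hq2))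
    rw [hcard, mul_assoc]; rw [Nat.odd_iff] at this; omega
  haveI : Fact (Nat.Prime 2) := ⟨Nat.prime_two⟩
  obtain ⟨T⟩ : Nonempty (Sylow 2 G) := inferInstance
  obtain ⟨-, hrel⟩ := Cfsg.Agent.S0992.result hG
    (by rw [hcard, mul_assoc]; exact ⟨2 * (p ^ a * q ^ b), by ring⟩) h8 T
  have h3 : 3 ∣ 4 * p ^ a * q ^ b :=
    hcard ▸ hrel ▸ (Subgroup.relIndex_dvd_card _ _).trans (card_subgroup_dvd_card _)
  rcases Nat.prime_three.dvd_mul.1 h3 with h | h
  · rcases Nat.prime_three.dvd_mul.1 h with h | h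
    · omega
    · obtain rfl := (Nat.prime_dvd_prime_iff_eq Nat.prime_three hp).1 (Nat.prime_three.dvd_of_dvd_pow h)
      exact SmallSimple.nonempty_mulEquiv_alternatingFive
        (card_sixty hG hq hq2 hpq.symm (i := a) (j := b) (by rw [hcard, mul_assoc]))
  · obtain rfl := (Nat.prime_dvd_prime_iff_eq Nat.prime_three hq).1 (Nat.prime_three.dvd_of_dvd_pow h)
    exact SmallSimple.nonempty_mulEquiv_alternatingFive
      (card_sixty hG hp hp2 hpq (i := b) (j := a) (by rw [hcard]; ring))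

/-- An element of order three in a simple group with a character of degree three, `9` not dividing
the order, is self-centralizing. -/
theorem centralizer_three (hG : ¬ IsMulCommutative G) {g₀ : ℕ} (hcard : Nat.card G = 3 * g₀)
    (hg₀ : ¬ 3 ∣ g₀) {χ : IrrCharacter G} (hd : charDegree (χ : G → ℂ) = 3) {x : G}
    (hx : orderOf x = 3) : centralizer ({x} : Set G) = zpowers x := by
  classical
  haveI := Fintype.ofFinite G
  haveI : Fact (Nat.Prime 3) := ⟨Nat.prime_three⟩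
  have hvan : ∀ g : G, 3 ∣ orderOf g → (χ : G → ℂ) g = 0 := fun g hg => by
    refine Char.apply_eq_zero_of_defect_zero χ.2 Nat.prime_three ?_ hg
    rw [hd, hcard, Nat.factorization_mul (by norm_num) (by omega), Finsupp.add_apply,
      Nat.prime_three.factorization_self, Nat.factorization_eq_zero_of_not_dvd hg₀]
    norm_num
  have hne : (χ : G → ℂ) ≠ fun _ => 3 := fun h => by
    have := hvan x (by rw [hx])
    rw [h] at this; norm_num at this
  obtain ⟨ρ, hρ, hinj⟩ := exists_rep hG hd hne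
  have hcenter : Subgroup.center G = ⊥ := by
    rcases (inferInstance : (center G).Normal).eq_bot_or_eq_top with h | h
    · exact h
    · exact absurd ⟨⟨fun a b => (mem_center_iff.1 (h ▸ mem_top b) a)⟩⟩ hG
  have hone : ∀ w : G, Commute x w → w ^ g₀ = 1 → w = 1 := by
    intro w hxw hw
    set m := orderOf w with hmdef
    have hm3 : ¬ 3 ∣ m := fun h => hg₀ (h.trans (orderOf_dvd_of_pow_eq_one hw))
    have hco : Nat.Coprime 3 m := Nat.prime_three.coprime_iff_not_dvd.2 hm3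
    set u := x * w with hu
    have hou : orderOf u = 3 * m := by
      rw [hu, hxw.orderOf_mul_eq_mul_orderOf_of_coprime (by rw [hx]; exact hco), hx]
    obtain ⟨ν, hν, hχ, -, hsc⟩ := eigen_three hG ρ u
    rw [hou] at hν
    have hm0 : 0 < m := orderOf_pos w
    have hj : ∀ k, ¬ 3 ∣ k → ν 0 ^ k + ν 1 ^ k + ν 2 ^ k = 0 := by
      intro k hk
      rw [← hχ, ← hρ]
      refine hvan _ ?_
      by_contra hn
      have h1 : (u ^ k) ^ m = 1 := by
        have hd' : orderOf (u ^ k) ∣ 3 * m := hou ▸ orderOf_pow_dvd k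
        exact orderOf_dvd_iff_pow_eq_one.1
          ((Nat.Coprime.dvd_of_dvd_mul_left (Nat.prime_three.coprime_iff_not_dvd.2 hn).symm hd'))
      rw [← pow_mul, ← orderOf_dvd_iff_pow_eq_one, hou] at h1
      exact hk (Nat.dvd_of_mul_dvd_mul_right hm0 h1)
    obtain ⟨l, hl3, hlm⟩ := Nat.chineseRemainder hco 1 0
    obtain ⟨k, hk3, hkm⟩ := Nat.chineseRemainder hco 0 1
    unfold Nat.ModEq at hl3 hk3
    have hlm' : m ∣ l := Nat.modEq_zero_iff_dvd.1 hlm
    have hl : ∀ i, (ν i ^ l) ^ 3 = 1 := fun i => by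
      obtain ⟨s, rfl⟩ := hlm'
      rw [← pow_mul, show m * s * 3 = 3 * m * s by ring, pow_mul, hν, one_pow]
    obtain ⟨r1, r2⟩ := cubes_three (hl 0) (hl 1) (hl 2) (hj l (by omega))
      (μ₁ := ν 0 ^ k) (μ₂ := ν 1 ^ k) (μ₃ := ν 2 ^ k)
      (by simp only [← pow_mul]; exact hj _ (by omega))
      (by simp only [← pow_add]; exact hj _ (by omega))
      (by simp only [← pow_mul, ← pow_add]; exact hj _ (by omega))
    have hw1 : u ^ k = w := by
      rw [hu, hxw.mul_pow]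
      have e1 : x ^ k = 1 :=
        orderOf_dvd_iff_pow_eq_one.1 (by rw [hx]; omega)
      have e2 : w ^ k = w ^ 1 := pow_eq_pow_iff_modEq.2 hkm
      rw [e1, e2, pow_one, one_mul]
    have hsw : ρ w = (ν 0 ^ k) • (1 : Module.End ℂ (Fin 3 → ℂ)) := by
      rw [← hw1]
      exact hsc k _ fun i => by fin_cases i; exacts [rfl, r1.symm, r2.symm]
    rw [← Subgroup.mem_bot, ← hcenter, mem_center_iff]
    intro g
    apply hinj
    rw [map_mul, map_mul, hsw, mul_smul_comm, smul_mul_assoc, mul_one, one_mul]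
  have hp3 : IsPGroup 3 (centralizer ({x} : Set G)) := by
    intro g
    refine ⟨1, Subtype.ext ?_⟩
    rw [Subgroup.coe_pow, Subgroup.coe_one, pow_one]
    refine hone _ (Commute.pow_right (mem_centralizer_singleton_iff.1 g.2).symm _) ?_
    rw [← pow_mul, ← hcard, pow_card_eq_one']
  obtain ⟨k, hk⟩ := IsPGroup.iff_card.1 hp3
  have hdvd : 3 ^ k ∣ 3 * g₀ := hcard ▸ hk ▸ card_subgroup_dvd_card _
  have hle : k ≤ 1 := by
    by_contra hk2
    have h9 : 9 ∣ 3 * g₀ := (pow_dvd_pow 3 (by omega : 2 ≤ k)).trans hdvd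
    omega
  refine (Subgroup.eq_of_le_of_card_ge ?_ ?_).symm
  · rw [zpowers_le, mem_centralizer_singleton_iff]
  · rw [hk, Nat.card_zpowers, hx]
    exact Nat.le_trans (Nat.pow_le_pow_right (by norm_num) hle) (by norm_num)

/-- Simple groups of order `3 * p ^ a * q ^ b` with `a ≤ 2`. -/
theorem iso_of_three (hG : ¬ IsMulCommutative G) {p q a b : ℕ} (hp : p.Prime) (hq : q.Prime)
    (hpq : p ≠ q) (ha : a ≤ 2) (hcard : Nat.card G = 3 * p ^ a * q ^ b) :
    Nonempty (G ≃* alternatingGroup (Fin 5)) ∨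
      Nonempty (G ≃* Matrix.ProjectiveSpecialLinearGroup (Fin 2) (ZMod 7)) := by
  have hns : ∀ {r s i j : ℕ}, r.Prime → s.Prime → ¬ Nat.card G ∣ r ^ i * s ^ j := by
    intro r s i j hr hs h
    haveI := SmallSimple.AltEight.solvable_two_primes hr hs h
    exact hG (IsSimpleGroup.comm_iff_isSolvable.2 inferInstance |> fun h => ⟨⟨h⟩⟩)
  have hp3 : p ≠ 3 := by
    rintro rfl
    exact hns (i := 1 + a) (j := b) Nat.prime_three hq (by rw [hcard, pow_add, pow_one])
  have hq3 : q ≠ 3 := by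
    rintro rfl
    exact hns (i := a) (j := 1 + b) hp Nat.prime_three (by rw [hcard, pow_add, pow_one]; ring_nf; rfl)
  haveI : Fact (Nat.Prime 2) := ⟨Nat.prime_two⟩
  have no_two : Even (Nat.card G) → ¬ 4 ∣ Nat.card G → False := by
    intro he h4
    obtain ⟨T⟩ : Nonempty (Sylow 2 G) := inferInstance
    obtain ⟨hT, -⟩ := Cfsg.Agent.S0992.result hG he (fun h => h4 ((by norm_num : 4 ∣ 8).trans h)) T
    exact h4 (hT.card_four ▸ card_subgroup_dvd_card _)
  by_cases hp2 : p = 2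
  · subst hp2
    have hq' : Odd (q ^ b) := Odd.pow (hq.odd_of_ne_two hpq.symm)
    rw [Nat.odd_iff] at hq'
    rcases (by omega : a = 0 ∨ a = 1 ∨ a = 2) with rfl | rfl | rfl
    · exact absurd (by rw [hcard, pow_zero, mul_one, pow_one]) (hns (i := 1) (j := b) Nat.prime_three hq)
    · refine (no_two ⟨3 * q ^ b, by rw [hcard]; ring⟩ ?_).elim
      rw [hcard, pow_one]; omega
    · exact Or.inl (iso_of_four hG Nat.prime_three hq hq3.symm (a := 1) (b := b)
        (by rw [hcard, pow_one]; ring))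
  haveI : Nontrivial G := inferInstance
  obtain ⟨⟨χ, hχ1, k, hk⟩, -⟩ := Cfsg.Agent.S4500.result (G := G) p 3 q a 1 b hp Nat.prime_three hq
    hp3 hpq hq3.symm ha (by rw [hcard, pow_one]; ring)
  have hg₀ : ¬ 3 ∣ p ^ a * q ^ b := by
    intro h
    rcases Nat.prime_three.dvd_mul.1 h with h | h
    · exact hp3 ((Nat.prime_dvd_prime_iff_eq Nat.prime_three hp).1 (Nat.prime_three.dvd_of_dvd_pow h)).symm
    · exact hq3 ((Nat.prime_dvd_prime_iff_eq Nat.prime_three hq).1 (Nat.prime_three.dvd_of_dvd_pow h)).symm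
  have hcard' : Nat.card G = 3 * (p ^ a * q ^ b) := by rw [hcard, mul_assoc]
  have hk1 : k = 1 := by
    have h1 : 3 ^ k ∣ 3 * (p ^ a * q ^ b) := hcard' ▸ hk ▸ Char.charDegree_dvd_card χ.2
    rcases Nat.lt_or_ge k 2 with h2 | h2
    · rcases (by omega : k = 0 ∨ k = 1) with rfl | rfl
      · exact absurd (hk.trans (pow_zero 3)) (charDegree_ne_one hG hχ1)
      · rfl
    · exfalso
      have h9 : 9 ∣ 3 * (p ^ a * q ^ b) := (pow_dvd_pow 3 h2).trans h1
      omega
  subst hk1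
  haveI : Fact (Nat.Prime 3) := ⟨Nat.prime_three⟩
  obtain ⟨x, hx⟩ := exists_prime_orderOf_dvd_card' (G := G) 3 ⟨_, hcard'⟩
  have hC := centralizer_three hG hcard' hg₀ (hk.trans (pow_one 3)) hx
  have hCX : centralizer ((zpowers x : Subgroup G) : Set G) = zpowers x := by
    refine le_antisymm ?_ ?_
    · conv_rhs => rw [← hC]
      exact centralizer_le (Set.singleton_subset_iff.2 (mem_zpowers x))
    · intro g hg
      rw [mem_centralizer_iff]
      intro h hh
      obtain ⟨i, rfl⟩ := mem_zpowers_iff.1 hh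
      obtain ⟨j, rfl⟩ := mem_zpowers_iff.1 hg
      rw [← zpow_add, ← zpow_add, add_comm]
  rcases Cfsg.Agent.S3331.result (zpowers x) (by rw [Nat.card_zpowers, hx]) hCX with
    ⟨N, hN, -, hco, h⟩ | ⟨N, hN, hcomm, -, ⟨e⟩⟩ | h
  · exfalso
    rcases hN.eq_bot_or_eq_top with rfl | rfl
    · have hq' : Nat.card (G ⧸ (⊥ : Subgroup G)) = Nat.card G :=
        Nat.card_congr (QuotientGroup.quotientBot (G := G)).toEquiv
      rcases h with h | ⟨⟨e⟩⟩
      · exact hns (i := 1) (j := 0) Nat.prime_three hq (by rw [← hq', h]; norm_num)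
      · have h6 : Nat.card G = 6 := by
          rw [← hq', Nat.card_congr e.toEquiv, Nat.card_perm, Nat.card_fin]; rfl
        exact no_two (h6 ▸ by decide) (by omega)
    · rw [Subgroup.card_top, hcard'] at hco
      exact Nat.prime_three.not_dvd_one (hco ▸ Nat.dvd_gcd (dvd_mul_right 3 _) dvd_rfl)
  · rcases hN.eq_bot_or_eq_top with rfl | rfl
    · exact Or.inl ⟨(QuotientGroup.quotientBot (G := G)).symm.trans e⟩
    · exact absurd ⟨⟨fun a b => congrArg Subtype.val
        (hcomm.is_comm.comm ⟨a, mem_top a⟩ ⟨b, mem_top b⟩)⟩⟩ hG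
  · exact Or.inr h

end Cfsg.Agent.Lib.SmallCofactor
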