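import Cfsg.Agent.Lib.SmallCofactor.Main
import Cfsg.Agent.Lib.SmallCofactor.PRQNumeric
import Cfsg.Agent.Lib.DefectOne.Principal
import Cfsg.Agent.Lib.DefectOne.SmallDegree
import Cfsg.Agent.Lib.Char.SmallDegrees
import Cfsg.Agent.Lib.Brauer43.Fix

/-!
# Simple groups of order `p * r * q ^ b`
-/

set_option autoImplicit false
set_option linter.style.haveILetI false
set_option linter.unusedSectionVars false

open Cfsg Cfsg.Agent.Lib Subgroup Module Polynomial

namespace Cfsg.Agent.Lib.SmallCofactor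

open Cfsg.Agent.Lib.Char.UC (C N)

universe u

/-- Twisted sums of roots of unity separate the values of the twist. -/
theorem twist_const {r : ℕ} (hr : r.Prime) {ι : Type*} [Fintype ι] (hι : Fintype.card ι = r)
    (a b : ι → ℂ) (ha : ∀ i, a i ^ r = 1)
    (h : ∀ j t : ℕ, ¬ r ∣ j → ∑ i, a i ^ j * b i ^ t = 0) (i₀ i : ι) : b i = b i₀ := by
  classical
  set T := (Finset.univ.image b).erase (b i₀) with hT
  set Q : Polynomial ℂ := ∏ c ∈ T, (Polynomial.X - Polynomial.C c) with hQ
  set S := Finset.univ.filter fun i => b i = b i₀ with hSdef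
  have hQ0 : Q.eval (b i₀) ≠ 0 := by
    rw [hQ, eval_prod, Finset.prod_ne_zero_iff]
    intro c hc
    simp only [eval_sub, eval_X, eval_C]
    exact sub_ne_zero.2 (Finset.mem_erase.1 hc).1.symm
  have hQ1 : ∀ i, b i ≠ b i₀ → Q.eval (b i) = 0 := fun i hi => by
    rw [hQ, eval_prod]
    exact Finset.prod_eq_zero (Finset.mem_erase.2 ⟨hi, Finset.mem_image_of_mem b (Finset.mem_univ i)⟩)
      (by simp)
  have hzero : ∀ j, ¬ r ∣ j → ∑ i ∈ S, a i ^ j = 0 := by
    intro j hj
    have h1 : ∑ i, a i ^ j * Q.eval (b i) = 0 := by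
      simp only [eval_eq_sum, Polynomial.sum, Finset.mul_sum]
      rw [Finset.sum_comm]
      refine Finset.sum_eq_zero fun t _ => ?_
      rw [Finset.sum_congr rfl (g := fun i => Q.coeff t * (a i ^ j * b i ^ t)) fun i _ => by ring,
        ← Finset.mul_sum, h j t hj, mul_zero]
    rw [← Finset.sum_filter_of_ne (p := fun i => b i = b i₀) fun i _ hi => by
      by_contra hne; exact hi (by rw [hQ1 i hne, mul_zero])] at h1
    rw [← hSdef, Finset.sum_congr rfl (g := fun i => a i ^ j * Q.eval (b i₀)) fun i hi => by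
      rw [(Finset.mem_filter.1 hi).2], ← Finset.sum_mul] at h1
    exact (mul_eq_zero.1 h1).resolve_right hQ0
  have h2 : ∑ j ∈ Finset.range r, ∑ i ∈ S, a i ^ j = (S.card : ℂ) := by
    rw [Finset.sum_eq_single 0 (fun j hj hj0 => hzero j fun hd => by
      have := Nat.le_of_dvd (Nat.pos_of_ne_zero hj0) hd
      have := Finset.mem_range.1 hj
      omega) (fun hn => absurd (Finset.mem_range.2 hr.pos) hn)]
    simp
  have h3 : ∑ j ∈ Finset.range r, ∑ i ∈ S, a i ^ j =
      ((r * (S.filter fun i => a i = 1).card : ℕ) : ℂ) := by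
    rw [Finset.sum_comm, Finset.sum_congr rfl (g := fun i => if a i = 1 then (r : ℂ) else 0)
      fun i _ => ?_, ← Finset.sum_filter, Finset.sum_const, nsmul_eq_mul]
    · push_cast; ring
    · split_ifs with h1
      · simp [h1]
      · have := geom_sum_mul (a i) r
        rw [ha, sub_self] at this
        exact (mul_eq_zero.1 this).resolve_right (sub_ne_zero.2 h1)
  have h4 : S.card = r * (S.filter fun i => a i = 1).card := by exact_mod_cast h2.symm.trans h3
  have hpos : 0 < S.card := Finset.card_pos.2 ⟨i₀, Finset.mem_filter.2 ⟨Finset.mem_univ _, rfl⟩⟩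
  have hle : S.card ≤ r := hι ▸ Finset.card_le_univ S
  have heq : S = Finset.univ := by
    refine Finset.eq_univ_of_card S ?_
    have := Nat.le_of_dvd hpos (Dvd.intro _ h4.symm)
    omega
  exact (Finset.mem_filter.1 (heq ▸ Finset.mem_univ i : i ∈ S)).2

variable {G : Type u} [Group G] [Finite G] [IsSimpleGroup G]

theorem center_eq_bot (hG : ¬ IsMulCommutative G) : Subgroup.center G = ⊥ := by
  rcases (inferInstance : (center G).Normal).eq_bot_or_eq_top with h | h
  · exact h
  · exact absurd ⟨⟨fun a b => (mem_center_iff.1 (h ▸ mem_top b) a)⟩⟩ hG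

theorem exists_rep_degree {n : ℕ} {χ : IrrCharacter G} (hd : charDegree (χ : G → ℂ) = n)
    (hχ : (χ : G → ℂ) ≠ fun _ => (n : ℂ)) :
    ∃ ρ : Representation ℂ G (Fin n → ℂ),
      (χ : G → ℂ) = ρ.character ∧ Function.Injective ρ := by
  obtain ⟨m, ρ, he⟩ := Char.isCharacter_of_isIrr χ.2
  have hn : m = n := by
    rw [← he, Char.charDegree_eq_of_apply_one (n := m) (by simp)] at hd
    exact hd
  subst hn
  refine ⟨ρ, he.symm, ?_⟩
  rcases (MonoidHom.normal_ker ρ.toHomUnits).eq_bot_or_eq_top with h | h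
  · intro a b hab
    exact (MonoidHom.ker_eq_bot_iff _).1 h (Units.ext hab)
  · exfalso
    refine hχ (funext fun g => ?_)
    have h1 : ρ g = 1 :=
      congrArg Units.val (MonoidHom.mem_ker.1 (show g ∈ ρ.toHomUnits.ker from h ▸ mem_top g))
    rw [← he, Representation.character, h1, LinearMap.trace_one]
    simp

/-- An element of order `r` in a simple group with a character of degree `r`, `r ^ 2` not dividing
the order, is self-centralizing. -/
theorem centralizer_prime (hG : ¬ IsMulCommutative G) {r g₀ : ℕ} (hr : r.Prime)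
    (hcard : Nat.card G = r * g₀) (hg₀ : ¬ r ∣ g₀) {χ : IrrCharacter G}
    (hd : charDegree (χ : G → ℂ) = r) {x : G} (hx : orderOf x = r) :
    centralizer ({x} : Set G) = zpowers x := by
  classical
  haveI := Fintype.ofFinite G
  haveI : Fact r.Prime := ⟨hr⟩
  have hg0 : g₀ ≠ 0 := fun h => hg₀ (h ▸ dvd_zero r)
  have hvan : ∀ g : G, r ∣ orderOf g → (χ : G → ℂ) g = 0 := fun g hg => by
    refine Char.apply_eq_zero_of_defect_zero χ.2 hr ?_ hg
    rw [hd, hcard, Nat.factorization_mul hr.ne_zero hg0, Finsupp.add_apply,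
      hr.factorization_self, Nat.factorization_eq_zero_of_not_dvd hg₀, add_zero, pow_one]
  have hne : (χ : G → ℂ) ≠ fun _ => (r : ℂ) := fun h => by
    have := hvan x (by rw [hx])
    rw [h] at this
    exact hr.ne_zero (Nat.cast_eq_zero.1 this)
  obtain ⟨ρ, hρ, hinj⟩ := exists_rep_degree hd hne
  have hone : ∀ w : G, Commute x w → w ^ g₀ = 1 → w = 1 := by
    intro w hxw hw
    set m := orderOf w with hmdef
    have hm3 : ¬ r ∣ m := fun h => hg₀ (h.trans (orderOf_dvd_of_pow_eq_one hw))
    have hco : Nat.Coprime r m := hr.coprime_iff_not_dvd.2 hm3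
    set u := x * w with hu
    have hou : orderOf u = r * m := by
      rw [hu, hxw.orderOf_mul_eq_mul_orderOf_of_coprime (by rw [hx]; exact hco), hx]
    obtain ⟨b, μ, hν, hk', hc⟩ := Char.exists_eigenbasis ρ u
    rw [hou] at hν
    have hm0 : 0 < m := orderOf_pos w
    obtain ⟨l, hl3, hlm⟩ := Nat.chineseRemainder hco 1 0
    obtain ⟨k, hk3, hkm⟩ := Nat.chineseRemainder hco 0 1
    have hlm' : m ∣ l := Nat.modEq_zero_iff_dvd.1 hlm
    have hkr : r ∣ k := Nat.modEq_zero_iff_dvd.1 hk3
    have hsep : ∀ i₀ i, μ i ^ k = μ i₀ ^ k := by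
      refine twist_const hr (by rw [Fintype.card_fin, Module.finrank_fin_fun])
        (fun i => μ i ^ l) (fun i => μ i ^ k) (fun i => ?_) fun j t hj => ?_
      · obtain ⟨s, rfl⟩ := hlm'
        rw [← pow_mul, show m * s * r = r * m * s by ring, pow_mul, hν, one_pow]
      · simp only [← pow_mul, ← pow_add]
        rw [← hc, ← hρ]
        refine hvan _ ?_
        by_contra hn
        have h1 : (u ^ (l * j + k * t)) ^ m = 1 := by
          have hd' : orderOf (u ^ (l * j + k * t)) ∣ r * m := hou ▸ orderOf_pow_dvd _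
          exact orderOf_dvd_iff_pow_eq_one.1
            ((Nat.Coprime.dvd_of_dvd_mul_left (hr.coprime_iff_not_dvd.2 hn).symm hd'))
        rw [← pow_mul, ← orderOf_dvd_iff_pow_eq_one, hou] at h1
        have h2 : r ∣ l * j + k * t := Nat.dvd_of_mul_dvd_mul_right hm0 h1
        rw [Nat.dvd_add_left (hkr.mul_right t)] at h2
        rcases hr.dvd_mul.1 h2 with h3 | h3
        · have h5 : l % r = 1 % r := hl3
          rw [Nat.mod_eq_zero_of_dvd h3, Nat.one_mod_eq_one.2 hr.ne_one] at h5
          omega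
        · exact hj h3
    have hw1 : u ^ k = w := by
      rw [hu, hxw.mul_pow]
      have e1 : x ^ k = 1 := orderOf_dvd_iff_pow_eq_one.1 (by rw [hx]; exact hkr)
      have e2 : w ^ k = w ^ 1 := pow_eq_pow_iff_modEq.2 hkm
      rw [e1, e2, pow_one, one_mul]
    have hpos : 0 < finrank ℂ (Fin r → ℂ) := by rw [Module.finrank_fin_fun]; exact hr.pos
    have hsw : ρ w = (μ ⟨0, hpos⟩ ^ k) • (1 : Module.End ℂ (Fin r → ℂ)) := by
      rw [← hw1]
      refine b.ext fun i => ?_
      rw [hk', LinearMap.smul_apply, Module.End.one_apply, hsep]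
    rw [← Subgroup.mem_bot, ← center_eq_bot hG, mem_center_iff]
    intro g
    apply hinj
    rw [map_mul, map_mul, hsw, mul_smul_comm, smul_mul_assoc, mul_one, one_mul]
  have hp3 : IsPGroup r (centralizer ({x} : Set G)) := by
    intro g
    refine ⟨1, Subtype.ext ?_⟩
    rw [Subgroup.coe_pow, Subgroup.coe_one, pow_one]
    refine hone _ (Commute.pow_right (mem_centralizer_singleton_iff.1 g.2).symm _) ?_
    rw [← pow_mul, ← hcard, pow_card_eq_one']
  obtain ⟨k, hk⟩ := IsPGroup.iff_card.1 hp3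
  have hdvd : r ^ k ∣ r * g₀ := hcard ▸ hk ▸ card_subgroup_dvd_card _
  have hle : k ≤ 1 := by
    by_contra hk2
    have h9 : r * r ∣ r * g₀ := (by rw [← pow_two]; exact pow_dvd_pow r (by omega) : r * r ∣ r ^ k).trans hdvd
    exact hg₀ (Nat.dvd_of_mul_dvd_mul_left hr.pos h9)
  refine (Subgroup.eq_of_le_of_card_ge ?_ ?_).symm
  · rw [zpowers_le, mem_centralizer_singleton_iff]
  · rw [hk, Nat.card_zpowers, hx]
    exact (Nat.pow_le_pow_right hr.pos hle).trans (pow_one r).le

theorem prime_pow_factor {q b g : ℕ} (hq : q.Prime) {p : ℕ} (hp : p.Prime) (h : g ∣ p * q ^ b) :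
    ∃ j, g = q ^ j ∨ g = p * q ^ j := by
  obtain ⟨⟨g₁, g₂⟩, h1, h2, rfl⟩ : ∃ d : ℕ × ℕ, d.1 ∣ p ∧ d.2 ∣ q ^ b ∧ g = d.1 * d.2 := by
    obtain ⟨g₁, g₂, h1, h2, rfl⟩ := exists_dvd_and_dvd_of_dvd_mul h
    exact ⟨⟨g₁, g₂⟩, h1, h2, rfl⟩
  obtain ⟨j, -, hj⟩ := (Nat.dvd_prime_pow hq).1 h2
  refine ⟨j, ?_⟩
  rcases (Nat.dvd_prime hp).1 h1 with e | e
  · left; simp only at e hj ⊢; rw [e, hj, one_mul]
  · right; simp only at e hj ⊢; rw [e, hj]

set_option maxHeartbeats 1000000 in
/-- There is no simple group of order `p * r * q ^ b` with `5 ≤ p < r`. -/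
theorem false_of_five_le (hG : ¬ IsMulCommutative G) {p q r b : ℕ} (hp : p.Prime) (hq : q.Prime)
    (hr : r.Prime) (hpq : p ≠ q) (hqr : q ≠ r) (hp5 : 5 ≤ p) (hpr : p < r)
    (hcard : Nat.card G = p * r * q ^ b) : False := by
  classical
  haveI := Fintype.ofFinite G
  haveI : Fact r.Prime := ⟨hr⟩
  haveI : Nontrivial G := inferInstance
  have hrd : ¬ r ∣ p * q ^ b := by
    intro h
    rcases hr.dvd_mul.1 h with h | h
    · exact hpr.ne' ((Nat.prime_dvd_prime_iff_eq hr hp).1 h)
    · exact hqr ((Nat.prime_dvd_prime_iff_eq hr hq).1 (hr.dvd_of_dvd_pow h)).symm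
  have hpd : ¬ p ∣ r * q ^ b := by
    intro h
    rcases hp.dvd_mul.1 h with h | h
    · exact hpr.ne ((Nat.prime_dvd_prime_iff_eq hp hr).1 h)
    · exact hpq ((Nat.prime_dvd_prime_iff_eq hp hq).1 (hp.dvd_of_dvd_pow h))
  have hcr : Nat.card G = r * (p * q ^ b) := by rw [hcard]; ring
  have hcp : Nat.card G = p * (r * q ^ b) := by rw [hcard]; ring
  have deg : ∀ {s g₀ : ℕ}, s.Prime → Nat.card G = s * g₀ → ¬ s ∣ g₀ → ∀ (χ : IrrCharacter G),
      (χ : G → ℂ) ≠ (fun _ => 1) → ∀ k, charDegree (χ : G → ℂ) = s ^ k →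
      charDegree (χ : G → ℂ) = s := by
    intro s g₀ hs hc hnd χ hχ k hk
    have h1 : s ^ k ∣ s * g₀ := hc ▸ hk ▸ Char.charDegree_dvd_card χ.2
    rcases Nat.lt_or_ge k 2 with h2 | h2
    · rcases (by omega : k = 0 ∨ k = 1) with e | e <;> subst e
      · exact absurd (hk.trans (pow_zero s)) (charDegree_ne_one hG hχ)
      · exact hk.trans (pow_one s)
    · exfalso
      refine hnd (Nat.dvd_of_mul_dvd_mul_left hs.pos ?_)
      rw [← pow_two]
      exact (pow_dvd_pow s h2).trans h1
  obtain ⟨⟨χr, hχr1, k₁, hk₁⟩, -⟩ := Cfsg.Agent.S4500.result (G := G) p r q 1 1 b hp hr hq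
    hpr.ne hpq hqr.symm (by norm_num) (by rw [hcard]; ring)
  obtain ⟨⟨χp, hχp1, k₂, hk₂⟩, -⟩ := Cfsg.Agent.S4500.result (G := G) r p q 1 1 b hr hp hq
    hpr.ne' hqr.symm hpq (by norm_num) (by rw [hcard]; ring)
  have hdr := deg hr hcr hrd χr hχr1 k₁ hk₁
  have hdp := deg hp hcp hpd χp hχp1 k₂ hk₂
  obtain ⟨P⟩ : Nonempty (Sylow r G) := inferInstance
  have hP : Nat.card (P : Subgroup G) = r :=
    (SmallSimple.card_sylow_subgroup P (k := 1) (m := p * q ^ b) (by rw [hcr, pow_one]) hrd).trans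
      (pow_one r)
  obtain ⟨x, hx, hx1⟩ := DefectOne.exists_mem_ne_one (P := P) hP
  have hxo := DefectOne.orderOf_of_mem hP hx hx1
  have hC : C P = (P : Subgroup G) := by
    refine (DefectOne.star_of_card hP x hx hx1).symm.trans ?_
    rw [centralizer_prime hG hr hcr hrd hdr hxo, DefectOne.zpowers_eq_P hP hx hx1]
  obtain ⟨M, hM⟩ := Block.exists_isPModular hr
  haveI := hM.2.1
  haveI := Fintype.ofFinite (C P)
  have hχB : χp ∈ principalBlock M G := by
    by_contra hn
    have hsub : ∀ θ : DefectOne.Th P, θ = DefectOne.oneTh P := by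
      intro θ
      refine Subtype.ext (Subtype.ext (funext fun c => ?_))
      have h1 : ∀ c : C P, (θ.1 : C P → ℂ) c = (θ.1 : C P → ℂ) 1 := fun c =>
        θ.2 c (hC ▸ c.2)
      have h2 := Char.classInner_irr_self θ.1.2
      rw [classInner, Finset.sum_congr rfl (g := fun _ : C P =>
        ((charDegree (θ.1 : C P → ℂ) : ℂ) * (charDegree (θ.1 : C P → ℂ) : ℂ))) fun c _ => by
        rw [h1 c, Char.apply_one_eq_charDegree (Char.isCharacter_of_isIrr θ.1.2), map_natCast],
        Finset.sum_const, nsmul_eq_mul, Finset.card_univ, ← Nat.card_eq_fintype_card,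
        ← mul_assoc, inv_mul_cancel₀ (Nat.cast_ne_zero.2 Nat.card_pos.ne'), one_mul] at h2
      have h3 : charDegree (θ.1 : C P → ℂ) = 1 :=
        Nat.eq_one_of_mul_eq_one_right (by exact_mod_cast h2)
      rw [h1 c, Char.apply_one_eq_charDegree (Char.isCharacter_of_isIrr θ.1.2), h3, Nat.cast_one]
      rfl
    have hv : ∀ y : (P : Subgroup G), y ≠ 1 → (χp : G → ℂ) y = 0 := by
      intro y hy
      have h := DefectOne.apply_eq_sum_S hP χp y (y := (1 : C P)) DefectOne.not_dvd_one'
      rw [OneMemClass.coe_one, mul_one] at h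
      rw [h]
      refine Finset.sum_eq_zero fun θ _ => ?_
      rw [hsub θ, DefectOne.S_eq_zero hM hP (DefectOne.oneTh P) (DefectOne.induced_principal hM hP)
        hn hy, zero_mul]
    haveI := Fintype.ofFinite (P : Subgroup G)
    obtain ⟨a, ha⟩ := Char.classInner_natCast
      (Char.isCharacter_restrict (Char.isCharacter_of_isIrr χp.2) (P : Subgroup G))
      (Char.isCharacter_of_isIrr (Char.isIrrCharacter_one (G := (P : Subgroup G))))
    rw [classInner, Finset.sum_eq_single 1 (fun y _ hy => by rw [hv y hy, zero_mul])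
      (fun e => absurd (Finset.mem_univ _) e), map_one, mul_one, OneMemClass.coe_one,
      Char.apply_one_eq_charDegree (Char.isCharacter_of_isIrr χp.2),
      inv_mul_eq_iff_eq_mul₀ (Nat.cast_ne_zero.2 Nat.card_pos.ne'), hdp, hP] at ha
    have ha' : p = r * a := by exact_mod_cast ha
    exact hpr.ne ((Nat.prime_dvd_prime_iff_eq hr hp).1 (Dvd.intro _ ha'.symm)).symm
  obtain ⟨hfdvd, Z, Y, sgn, ε, hB, hdis, hZ, hY, hε, hZv, hYv, hYr, hrel⟩ :=
    DefectOne.principal_structure hM hP
  set f := (C P).relIndex (N P) with hfdef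
  have hrdiv : r ∣ Nat.card G := Dvd.intro _ hcr.symm
  have hf2 : 2 ≤ f := by
    have h0 : f ≠ 0 := Subgroup.index_ne_zero_of_finite
    have h1 : f ≠ 1 := fun h =>
      SmallSimple.not_normalizer_le_centralizer hG P hrdiv (Subgroup.relIndex_eq_one.1 h)
    omega
  have hfG : f ∣ Nat.card G :=
    (Subgroup.relIndex_dvd_card _ _).trans (card_subgroup_dvd_card _)
  have hfle : f ≤ r - 1 := Nat.le_of_dvd (by omega) hfdvd
  have hfcop : Nat.Coprime f r :=
    ((hr.coprime_iff_not_dvd).2 fun h => by have := Nat.le_of_dvd (by omega) h; omega).symm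
  obtain ⟨i₀, hi₀⟩ : ∃ j, f = q ^ j ∨ f = p * q ^ j :=
    prime_pow_factor hq hp (hfcop.dvd_of_dvd_mul_left (hcr ▸ hfG))
  -- the exceptional character
  have hzmem : ∀ χ ∈ Z, χ ∈ principalBlock M G := fun χ h => by rw [hB]; exact Or.inl h
  have hpY : χp ∈ Y := by
    have := hB ▸ hχB
    refine this.resolve_left fun hz => ?_
    obtain ⟨hs, hc, -⟩ := hZv χp hz
    rw [hdp] at hc
    obtain ⟨c, hc⟩ := hc.dvd
    have h1 : (p : ℤ) + 1 < r := by
      have : p + 1 ≠ r := fun e => by
        rcases hp.eq_two_or_odd with h | h <;> rcases hr.eq_two_or_odd with h' | h' <;> omega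
      omega
    have h2 : (5 : ℤ) ≤ p := by exact_mod_cast hp5
    rcases hs with e | e <;> rw [e] at hc <;>
      (rcases lt_trichotomy c 0 with h | h | h <;> first | nlinarith | (subst h; omega))
  have hone : Block.oneIrr G ∈ Z := by
    have h1 : Block.oneIrr G ∈ principalBlock M G := Block.oneIrr_mem
    rw [hB] at h1
    refine h1.resolve_right fun hy => ?_
    have := hYr _ hy _ hpY 1 (by rw [orderOf_one]; exact hr.not_dvd_one)
    rw [Block.oneIrr_apply, Char.apply_one_eq_charDegree (Char.isCharacter_of_isIrr χp.2), hdp] at this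
    exact hp.ne_one (by exact_mod_cast this.symm)
  have hs1 : sgn (Block.oneIrr G) = 1 := by
    obtain ⟨hs, hc, -⟩ := hZv _ hone
    refine hs.resolve_right fun e => ?_
    rw [e, show charDegree (Block.oneIrr G : G → ℂ) = 1 from Char.charDegree_one] at hc
    have := Int.le_of_dvd (by norm_num) (Int.modEq_iff_dvd.1 hc.symm)
    omega
  have hsum : ε * (p : ℤ) = 1 + ∑ χ ∈ Z.erase (Block.oneIrr G),
      sgn χ * charDegree (χ : G → ℂ) := by
    have h := hrel _ hpY 1 (by rw [orderOf_one]; exact hr.not_dvd_one)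
    rw [← Finset.add_sum_erase _ _ hone, hs1, Block.oneIrr_apply,
      Char.apply_one_eq_charDegree (Char.isCharacter_of_isIrr χp.2), hdp,
      Finset.sum_congr rfl (g := fun χ : IrrCharacter G =>
        ((sgn χ * charDegree (χ : G → ℂ) : ℤ) : ℂ)) fun χ _ => by
        rw [Char.apply_one_eq_charDegree (Char.isCharacter_of_isIrr χ.2)]; push_cast; rfl,
      ← Int.cast_sum] at h
    simp only [Int.cast_one, mul_one] at h
    exact_mod_cast h
  have hcongp : (r : ℤ) ∣ ε * f - p := by
    have := hYv _ hpY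
    rw [hdp] at this
    exact this.dvd
  set S := Z.erase (Block.oneIrr G) with hSdef
  have hScard : S.card + 1 = f := by
    rw [hSdef, Finset.card_erase_add_one hone, hZ]
  have hs : ∀ χ ∈ S, sgn χ = 1 ∨ sgn χ = -1 := fun χ h => (hZv χ (Finset.mem_of_mem_erase h)).1
  have hg1 : ∀ χ ∈ S, charDegree (χ : G → ℂ) ≠ 1 := fun χ h =>
    charDegree_ne_one hG fun e => Finset.ne_of_mem_erase h (Subtype.ext (by
      rw [e]; exact funext fun g => (Block.oneIrr_apply g).symm))
  have hg : ∀ χ ∈ S, (r : ℤ) ∣ (charDegree (χ : G → ℂ) : ℤ) - sgn χ := fun χ h =>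
    (hZv χ (Finset.mem_of_mem_erase h)).2.1.symm.dvd
  have hd : ∀ χ ∈ S, ∃ j, charDegree (χ : G → ℂ) = q ^ j ∨ charDegree (χ : G → ℂ) = p * q ^ j := by
    intro χ h
    refine prime_pow_factor hq hp (Nat.Coprime.dvd_of_dvd_mul_left ?_ (hcr ▸ Char.charDegree_dvd_card χ.2))
    refine ((hr.coprime_iff_not_dvd).2 fun hd => ?_).symm
    have h1 := hg χ h
    rw [dvd_sub_right (Int.natCast_dvd_natCast.2 hd)] at h1
    have := Int.le_of_dvd (by norm_num) (show (r : ℤ) ∣ 1 by
      rcases hs χ h with e | e <;> rw [e] at h1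
      · exact h1
      · simpa using h1)
    omega
  have hf' : (f : ℤ) ≤ r - 1 := by omega
  have hpr' : (p : ℤ) < r := by exact_mod_cast hpr
  have hp5' : (5 : ℤ) ≤ p := by exact_mod_cast hp5
  have hf2' : (2 : ℤ) ≤ f := by exact_mod_cast hf2
  obtain ⟨c, hc⟩ := hcongp
  rcases hε with e | e <;> subst e
  · have hfp : f = p := by
      rcases lt_trichotomy c 0 with h | h | h
      · nlinarith
      · subst h; omega
      · nlinarith
    rw [one_mul] at hsum
    have hfeit : r ≤ 2 * p + 1 := by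
      by_contra hlt
      have hnr : (P : Subgroup G).Normal := by
        refine DefectOne.sylow_normal_of_small_degree hM (Nat.card G) G P le_rfl hP (χp : G → ℂ)
          (Char.isCharacter_of_isIrr χp.2)
          (fun g hg => Char.SmallDegrees.faithful_of_simple χp.2 hχp1 hg) ?_
        rw [hdp]; omega
      rcases hnr.eq_bot_or_eq_top with h | h
      · rw [h, Subgroup.card_bot] at hP; exact hr.ne_one hP.symm
      · rw [h, Subgroup.card_top, hcr] at hP
        have : p * q ^ b = 1 := Nat.eq_of_mul_eq_mul_left hr.pos (by rw [hP, mul_one])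
        have := Nat.eq_one_of_mul_eq_one_right this
        omega
    have hr2 : r = 2 * p + 1 := by
      obtain ⟨k, hk⟩ := hfdvd
      rw [hfp] at hk
      rcases hp.eq_two_or_odd with h | h <;> rcases hr.eq_two_or_odd with h' | h'
      all_goals first
        | omega
        | (rcases k with _ | _ | _ | k
           · omega
           · omega
           · omega
           · have h6 : 3 * p ≤ p * (k + 1 + 1 + 1) := by nlinarith
             omega)
    exact false_of_index_p hp hq hr hr2 hp5 S (by omega) _ sgn hs hg1 hg hd hsum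
  · have hfr : r = p + f := by
      rcases lt_trichotomy c (-1) with h | h | h
      · nlinarith
      · subst h; omega
      · nlinarith
    have hfp : f ∣ p - 1 := by
      have h1 : f ∣ r - 1 := hfdvd
      rw [show r - 1 = p - 1 + f by omega] at h1
      exact (Nat.dvd_add_left dvd_rfl).1 h1
    have hfq : ∃ i, f = q ^ i := by
      refine ⟨i₀, hi₀.resolve_right fun e => ?_⟩
      have : p ∣ p - 1 := (Dvd.intro _ e.symm).trans hfp
      have := Nat.le_of_dvd (by omega) this
      omega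
    rw [neg_one_mul] at hsum
    exact false_of_index_f hp hq hr hp5 hfr hf2 hfp hfq S hScard _ sgn hs hg1 hg hd hsum

end Cfsg.Agent.Lib.SmallCofactor
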